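import Mathlib.RingTheory.Algebraic.Integral
import Mathlib.RingTheory.IntegralClosure.IsIntegralClosure.Basic
import Mathlib.RingTheory.Localization.FractionRing
import Mathlib.RingTheory.Localization.Module
import Mathlib.RingTheory.Localization.Algebra
import Mathlib.LinearAlgebra.FreeModule.Basic
import Groth.Agent.Lib.RefHull26.GenFree

/-!
# Finitely generated algebraic algebras, generically
-/

universe u

open Polynomial

namespace Groth.Agent.GenDeg28

variable {B C : Type u} [CommRing B] [IsDomain B] [CommRing C] [IsDomain C] [Algebra B C] [Algebra.IsAlgebraic B C]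

/-- An ideal which is not zero meets the base. -/
theorem exists_mem_comap {I : Ideal C} (hI : I ≠ ⊥) (hinj : Function.Injective (algebraMap B C)) :
    ∃ b : B, b ≠ 0 ∧ algebraMap B C b ∈ I := by
  obtain ⟨c, hc, hc0⟩ := Submodule.exists_mem_ne_zero_of_ne_bot hI
  haveI : FaithfulSMul B C := (faithfulSMul_iff_algebraMap_injective B C).2 hinj
  obtain ⟨b, hb, hdvd⟩ := (Algebra.IsAlgebraic.isAlgebraic (R := B) c).exists_nonzero_dvd
    (mem_nonZeroDivisors_of_ne_zero hc0)
  exact ⟨b, hb, I.mem_of_dvd hdvd hc⟩

/-- One denominator makes a finitely generated algebraic algebra finite. -/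
theorem exists_finite_away [Algebra.FiniteType B C] :
    ∃ b : B, b ≠ 0 ∧ ∀ β : B, b ∣ β → ∀ (B' C' : Type u) [CommRing B'] [CommRing C'] [Algebra B B'] [Algebra C C']
      [Algebra B' C'] [Algebra B C'] [IsScalarTower B B' C'] [IsScalarTower B C C'] [IsLocalization.Away β B']
      [IsLocalization.Away (algebraMap B C β) C'] [Algebra.FiniteType B' C'], Module.Finite B' C' := by
  obtain ⟨s, hs⟩ := Algebra.FiniteType.out (R := B) (A := C)
  obtain ⟨b, hb, hint⟩ := Algebra.IsAlgebraic.exists_integral_multiples B (A := C) s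
  refine ⟨b, hb, fun β hdvd B' C' _ _ _ _ _ _ _ _ _ _ _ => ?_⟩
  have hub : IsUnit (algebraMap B B' b) :=
    isUnit_of_dvd_unit (map_dvd _ hdvd) (IsLocalization.Away.algebraMap_isUnit β)
  let u : B'ˣ := hub.unit
  have hu : (u : B') = algebraMap B B' b := rfl
  let v : B'ˣ := (IsLocalization.Away.algebraMap_isUnit β).unit
  have hv : (v : B') = algebraMap B B' β := rfl
  have hC : ∀ c : C, IsIntegral B' (algebraMap C C' c) := by
    intro c
    have hc : c ∈ Algebra.adjoin B (s : Set C) := hs ▸ Algebra.mem_top
    induction hc using Algebra.adjoin_induction with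
    | mem x hx =>
      have h1 : IsIntegral B' (algebraMap C C' (b • x)) :=
        ((hint x hx).map (IsScalarTower.toAlgHom B C C')).tower_top
      rw [Algebra.smul_def, map_mul, ← IsScalarTower.algebraMap_apply B C C',
        IsScalarTower.algebraMap_apply B B' C', ← hu] at h1
      have h2 := (isIntegral_algebraMap (R := B') (A := C') (x := ((u⁻¹ : B'ˣ) : B'))).mul h1
      rwa [← mul_assoc, ← map_mul, Units.inv_mul, map_one, one_mul] at h2
    | algebraMap r =>
      rw [← IsScalarTower.algebraMap_apply B C C', IsScalarTower.algebraMap_apply B B' C']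
      exact isIntegral_algebraMap
    | add x y _ _ hx hy => rw [map_add]; exact hx.add hy
    | mul x y _ _ hx hy => rw [map_mul]; exact hx.mul hy
  haveI : Algebra.IsIntegral B' C' := ⟨fun z => by
    obtain ⟨n, a, h⟩ := IsLocalization.Away.surj (algebraMap B C β) z
    have hbc : algebraMap C C' (algebraMap B C β) = algebraMap B' C' (v : B') := by
      rw [hv, ← IsScalarTower.algebraMap_apply B C C', IsScalarTower.algebraMap_apply B B' C']
    rw [hbc, ← map_pow] at h
    have h2 := (isIntegral_algebraMap (R := B') (A := C') (x := ((v⁻¹ : B'ˣ) : B') ^ n)).mul (hC a)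
    rwa [← h, mul_comm z, ← mul_assoc, ← map_mul, ← mul_pow, Units.inv_mul, one_pow, map_one, one_mul] at h2⟩
  exact Algebra.IsIntegral.finite

/-- One denominator makes a finite algebra free. -/
theorem exists_free_away' (B C : Type u) [CommRing B] [IsDomain B] [CommRing C] [Algebra B C] [Module.Finite B C] :
    ∃ r : B, r ≠ 0 ∧ ∀ (B' C' : Type u) [CommRing B'] [CommRing C'] [Algebra B B'] [Algebra C C'] [Algebra B' C']
      [Algebra B C'] [IsScalarTower B B' C'] [IsScalarTower B C C'] [IsLocalization.Away r B']
      [IsLocalization.Away (algebraMap B C r) C'], Module.Free B' C' := by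
  obtain ⟨r, hr, hfree⟩ := RH26.exists_free_away (A := B) (N := C)
  refine ⟨r, hr, fun B' C' _ _ _ _ _ _ _ _ _ _ => ?_⟩
  haveI : IsLocalization (Algebra.algebraMapSubmonoid C (Submonoid.powers r)) C' := by
    rw [Algebra.algebraMapSubmonoid, Submonoid.map_powers]
    infer_instance
  haveI : IsLocalizedModule (Submonoid.powers r) (IsScalarTower.toAlgHom B C C').toLinearMap :=
    (isLocalizedModule_iff_isLocalization).2 inferInstance
  let L := Localization (Submonoid.powers r)
  let σ : L ≃ₐ[B] B' := IsLocalization.algEquiv (Submonoid.powers r) L B'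
  letI : Algebra L C' := ((algebraMap B' C').comp σ.toRingEquiv.toRingHom).toAlgebra
  haveI : IsScalarTower B L C' := IsScalarTower.of_algebraMap_eq fun x => by
    rw [RingHom.algebraMap_toAlgebra, IsScalarTower.algebraMap_apply B B' C', ← σ.commutes]
    rfl
  haveI : Module.Free L (LocalizedModule.Away r C) := hfree
  let e : LocalizedModule.Away r C ≃ₗ[L] C' :=
    (IsLocalizedModule.iso (Submonoid.powers r) (IsScalarTower.toAlgHom B C C').toLinearMap).extendScalarsOfIsLocalization
      (Submonoid.powers r) L
  haveI : Module.Free L C' := Module.Free.of_equiv e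
  haveI : RingHomInvPair (σ.toRingEquiv : L →+* B') (σ.toRingEquiv.symm : B' →+* L) :=
    RingHomInvPair.of_ringEquiv σ.toRingEquiv
  haveI : RingHomInvPair (σ.toRingEquiv.symm : B' →+* L) (σ.toRingEquiv : L →+* B') :=
    RingHomInvPair.of_ringEquiv_symm σ.toRingEquiv
  let e' : C' ≃ₛₗ[(σ.toRingEquiv : L →+* B')] C' :=
    { AddEquiv.refl C' with
      map_smul' := fun a x => by
        show a • x = σ a • x
        rw [Algebra.smul_def, Algebra.smul_def]
        rfl }
  exact Module.Free.of_equiv e'

end Groth.Agent.GenDeg28
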