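import Groth.Agent.Lib.GenDeg28.Alg
import Groth.Agent.Lib.VarDim.Scheme
import Mathlib.AlgebraicGeometry.Morphisms.FlatRank
import Mathlib.AlgebraicGeometry.FunctionField
import Mathlib.AlgebraicGeometry.Morphisms.Finite
import Mathlib.RingTheory.AlgebraicIndependent.Transcendental
import Mathlib.RingTheory.Spectrum.Prime.FreeLocus

/-!
# The degree of a generically finite morphism of integral schemes
-/

universe u

open CategoryTheory CategoryTheory.Limits AlgebraicGeometry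

noncomputable section

namespace Groth.Agent.GenDeg28

/-- The rank over a point. -/
theorem finrank_fibre {Z : Scheme.{u}} {K : Type u} [Field K] (g : Z ⟶ Spec (CommRingCat.of K)) [IsFinite g]
    (x : Spec (CommRingCat.of K)) :
    g.finrank x = (letI := ((Scheme.ΓSpecIso (CommRingCat.of K)).inv ≫ g.appTop).hom.toAlgebra;
      Module.finrank K ↑(Γ(Z, ⊤))) := by
  haveI : IsAffine Z := isAffine_of_isAffineHom g
  set φ := (Scheme.ΓSpecIso (CommRingCat.of K)).inv ≫ g.appTop with hφ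
  have hg : g = Z.isoSpec.hom ≫ Spec.map φ := by
    rw [hφ, Spec.map_comp, ← Category.assoc, Scheme.isoSpec_hom_naturality g, Category.assoc,
      Scheme.isoSpec_Spec_hom, ← Spec.map_comp, Iso.inv_hom_id, Spec.map_id, Category.comp_id]
  have hfin : φ.hom.Finite := by
    rw [← IsFinite.SpecMap_iff]
    have h : IsFinite (Z.isoSpec.inv ≫ g) := inferInstance
    rwa [hg, Iso.inv_hom_id_assoc] at h
  have hflat : φ.hom.Flat := by
    letI := φ.hom.toAlgebra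
    exact RingHom.flat_algebraMap_iff.2 inferInstance
  haveI : IsFinite (Spec.map φ) := (IsFinite.SpecMap_iff φ).2 hfin
  haveI : Flat (Spec.map φ) := Flat.SpecMap_iff.2 hflat
  letI := φ.hom.toAlgebra
  haveI : Module.Finite K Γ(Z, ⊤) := hfin
  conv_lhs => rw [hg]
  rw [Scheme.Hom.finrank_comp_left_of_isIso, Scheme.Hom.finrank_SpecMap_eq_finrank hfin hflat,
    ← RingHom.algebraMap_toAlgebra φ.hom, RingHom.finrank_algebraMap]
  exact congrFun (Module.rankAtStalk_eq_finrank_of_free (R := K) (M := Γ(Z, ⊤))) x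

variable {X Y : Scheme.{u}}

/-- Evaluation at the generic point is injective. -/
lemma evaluation_injective [IsIntegral X] (W : X.Opens) (hξ : genericPoint ↥X ∈ W) :
    Function.Injective (X.evaluation W _ hξ) := by
  intro a b h
  have hb : Function.Injective (X.residue (genericPoint ↥X)) := by
    have : IsField (X.presheaf.stalk (genericPoint ↥X)) := Field.toIsField X.functionField
    letI := this.toField
    exact RingHom.injective _
  exact germ_injective_of_isIntegral X _ hξ (hb h)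

variable (f : X ⟶ Y)

lemma evaluation_appLE {V : Y.Opens} {W : X.Opens} (e : W ≤ f ⁻¹ᵁ V) (x : X) (hx : x ∈ W) (a : Γ(Y, V)) :
    X.evaluation W x hx (f.appLE V W e a) = f.residueFieldMap x (Y.evaluation V (f x) (e hx) a) := by
  rw [Scheme.evaluation_naturality_apply f x (e hx) a, Scheme.Hom.appLE, CommRingCat.comp_apply]
  show X.residue x (X.presheaf.germ W x hx (X.presheaf.map (homOfLE e).op (f.app V a))) = _
  rw [TopCat.Presheaf.germ_res_apply]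
  rfl

/-- The function field is the fraction field of the sections over an affine open. -/
lemma isFractionRing_residueField [IsIntegral Y] {V : Y.Opens} (hV : IsAffineOpen V) (x : Y)
    (hx : x = genericPoint ↥Y) (hxV : x ∈ V) :
    letI := (Y.evaluation V x hxV).hom.toAlgebra
    IsFractionRing Γ(Y, V) (Y.residueField x) := by
  subst hx
  letI := (Y.evaluation V _ hxV).hom.toAlgebra
  haveI : FaithfulSMul Γ(Y, V) (Y.residueField (genericPoint ↥Y)) :=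
    (faithfulSMul_iff_algebraMap_injective _ _).2 (evaluation_injective V hxV)
  exact IsFractionRing.of_field _ _ fun z => by
    obtain ⟨a, b, h⟩ := VarDim.exists_evaluation_eq_div (U := V) hV _ hxV z
    exact ⟨a, b, h⟩

variable [IsIntegral X] [IsIntegral Y] [IsDominant f]

omit [IsIntegral X] [IsIntegral Y] in
lemma map_genericPoint [IrreducibleSpace X] [IrreducibleSpace Y] : f (genericPoint ↥X) = genericPoint ↥Y := by
  have h := (genericPoint_spec ↥X).image f.continuous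
  rw [Set.image_univ, f.denseRange.closure_range] at h
  exact h.eq (genericPoint_spec ↥Y)

lemma genericPoint_mem {W : X.Opens} (hW : (W : Set X).Nonempty) : genericPoint ↥X ∈ W :=
  ((genericPoint_spec ↥X).mem_open_set_iff W.2).2 (by simpa using hW)

set_option maxHeartbeats 1000000 in
theorem exists_finite_flat [IsIntegral Y] [LocallyOfFiniteType f] [QuasiCompact f]
    (halg : letI := (f.residueFieldMap (genericPoint ↥X)).hom.toAlgebra
      Algebra.IsAlgebraic (Y.residueField (f (genericPoint ↥X))) (X.residueField (genericPoint ↥X))) :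
    ∃ (U : Y.Opens) (hU : IsAffineOpen U) (_ : Nonempty ↥U) (hW : IsAffineOpen (f ⁻¹ᵁ U)),
      (f.appLE U (f ⁻¹ᵁ U) le_rfl).hom.Finite ∧
      letI := (f.appLE U (f ⁻¹ᵁ U) le_rfl).hom.toAlgebra
      Module.Free Γ(Y, U) Γ(X, f ⁻¹ᵁ U) ∧
      Module.finrank Γ(Y, U) Γ(X, f ⁻¹ᵁ U) =
        (letI := (f.residueFieldMap (genericPoint ↥X)).hom.toAlgebra;
          Module.finrank (Y.residueField (f (genericPoint ↥X))) (X.residueField (genericPoint ↥X))) := by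
  classical
  set ξ := genericPoint ↥X with hξdef
  have hη : f ξ = genericPoint ↥Y := map_genericPoint f
  obtain ⟨_, ⟨V, hV, rfl⟩, hηV, -⟩ :=
    Y.isBasis_affineOpens.exists_subset_of_mem_open (Set.mem_univ (f ξ)) isOpen_univ
  obtain ⟨_, ⟨W₀, hW₀, rfl⟩, hξW₀, hW₀V⟩ :=
    X.isBasis_affineOpens.exists_subset_of_mem_open (show ξ ∈ (f ⁻¹ᵁ V : Set X) from hηV) (f ⁻¹ᵁ V).2
  haveI : Nonempty ↥V := ⟨⟨_, hηV⟩⟩
  replace hW₀V : W₀ ≤ f ⁻¹ᵁ V := hW₀V
  haveI : IsDomain Γ(Y, V) := @IsIntegral.component_integral _ _ V ⟨⟨_, hηV⟩⟩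
  -- sections over affine opens of the preimage are algebraic over the base
  have key : ∀ (W : X.Opens) (hW : IsAffineOpen W) (e : W ≤ f ⁻¹ᵁ V), ξ ∈ W →
      letI := (f.appLE V W e).hom.toAlgebra
      Algebra.IsAlgebraic Γ(Y, V) Γ(X, W) ∧ Function.Injective (f.appLE V W e) := by
    intro W hW e hξW
    letI := (f.appLE V W e).hom.toAlgebra
    letI := (f.residueFieldMap ξ).hom.toAlgebra
    haveI := halg
    letI := (Y.evaluation V (f ξ) hηV).hom.toAlgebra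
    haveI := isFractionRing_residueField hV (f ξ) hη hηV
    letI : Algebra Γ(Y, V) (X.residueField ξ) :=
      ((f.residueFieldMap ξ).hom.comp (Y.evaluation V (f ξ) hηV).hom).toAlgebra
    haveI : IsScalarTower Γ(Y, V) (Y.residueField (f ξ)) (X.residueField ξ) := IsScalarTower.of_algebraMap_eq' rfl
    haveI : Algebra.IsAlgebraic Γ(Y, V) (Y.residueField (f ξ)) := IsLocalization.isAlgebraic _ (nonZeroDivisors _)
    haveI : Algebra.IsAlgebraic Γ(Y, V) (X.residueField ξ) :=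
      Algebra.IsAlgebraic.trans Γ(Y, V) (Y.residueField (f ξ)) (X.residueField ξ)
    let ev : Γ(X, W) →ₐ[Γ(Y, V)] X.residueField ξ :=
      { (X.evaluation W ξ hξW).hom with commutes' := fun a => evaluation_appLE f e ξ hξW a }
    refine ⟨⟨fun c => (isAlgebraic_algHom_iff ev (evaluation_injective W hξW)).1
      (Algebra.IsAlgebraic.isAlgebraic _)⟩, fun a b h => ?_⟩
    have h2 := congrArg (X.evaluation W ξ hξW) h
    rw [evaluation_appLE, evaluation_appLE] at h2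
    exact IsFractionRing.injective Γ(Y, V) (Y.residueField (f ξ)) ((f.residueFieldMap ξ).hom.injective h2)
  -- shrink into one affine open
  obtain ⟨S, hSfin, hSeq⟩ := isCompact_iff_finite_and_eq_biUnion_affineOpens.1
    (show IsCompact ((f ⁻¹ᵁ V : X.Opens) : Set X) from f.isCompact_preimage hV.isCompact)
  haveI : Fintype S := hSfin.fintype
  have hmemS : ∀ x, x ∈ f ⁻¹ᵁ V ↔ ∃ W ∈ S, x ∈ ((W : X.affineOpens) : X.Opens) := fun x => by
    rw [hSeq]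
    simp
  have hb : ∀ W : S, ∃ b : Γ(Y, V), b ≠ 0 ∧ ∀ x ∈ (W.1 : X.Opens), f x ∈ Y.basicOpen b → x ∈ W₀ := by
    intro W
    have e : (W.1 : X.Opens) ≤ f ⁻¹ᵁ V := fun x hx => (hmemS x).2 ⟨W.1, W.2, hx⟩
    by_cases hne : ((W.1 : X.Opens) : Set X).Nonempty
    swap
    · exact ⟨1, one_ne_zero, fun x hx => absurd ⟨x, hx⟩ hne⟩
    have hξW := genericPoint_mem hne
    letI := (f.appLE V W.1 e).hom.toAlgebra
    obtain ⟨halgW, hinjW⟩ := key _ W.1.2 e hξW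
    haveI := halgW
    haveI : Nonempty ↥(W.1 : X.Opens) := ⟨⟨_, hne.choose_spec⟩⟩
    haveI : IsDomain Γ(X, (W.1 : X.Opens)) := @IsIntegral.component_integral _ _ _ ⟨⟨_, hne.choose_spec⟩⟩
    obtain ⟨c, hc1, hc2⟩ := W.1.2.exists_basicOpen_le (V := W₀) ⟨ξ, hξW₀⟩ hξW
    have hc0 : c ≠ 0 := fun h0 => by
      rw [h0, Scheme.basicOpen_zero] at hc2
      exact hc2
    obtain ⟨b, hb, hbI⟩ := exists_mem_comap (I := Ideal.span {c}) (by simpa using hc0) hinjW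
    refine ⟨b, hb, fun x hx hfx => ?_⟩
    have hx' : x ∈ X.basicOpen (f.appLE V W.1 e b) := by
      rw [Scheme.basicOpen_appLE]
      exact ⟨hx, hfx⟩
    obtain ⟨d, hd⟩ := Ideal.mem_span_singleton'.1 hbI
    rw [show f.appLE V W.1 e b = d * c from hd.symm, Scheme.basicOpen_mul] at hx'
    exact hc1 hx'.2
  choose b hb hbW using hb
  obtain ⟨halg₀, hinj₀⟩ := key W₀ hW₀ hW₀V hξW₀
  letI := (f.appLE V W₀ hW₀V).hom.toAlgebra
  haveI := halg₀
  haveI : Algebra.FiniteType Γ(Y, V) Γ(X, W₀) := f.finiteType_appLE hV hW₀ hW₀V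
  haveI : Nonempty ↥W₀ := ⟨⟨_, hξW₀⟩⟩
  haveI : IsDomain Γ(X, W₀) := @IsIntegral.component_integral _ _ W₀ ⟨⟨_, hξW₀⟩⟩
  obtain ⟨b₁, hb₁, hfin⟩ := exists_finite_away (B := Γ(Y, V)) (C := Γ(X, W₀))
  let β := b₁ * ∏ W, b W
  have hβ : β ≠ 0 := mul_ne_zero hb₁ (Finset.prod_ne_zero_iff.2 fun W _ => hb W)
  let U₁ := Y.basicOpen β
  have hU₁ : IsAffineOpen U₁ := hV.basicOpen β
  have hU₁V : U₁ ≤ V := Y.basicOpen_le β
  have hW₁eq : f ⁻¹ᵁ U₁ = X.basicOpen (f.appLE V W₀ hW₀V β) := by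
    rw [Scheme.basicOpen_appLE]
    refine le_antisymm (fun x hx => ⟨?_, hx⟩) inf_le_right
    have hxV : x ∈ (f ⁻¹ᵁ V : Set X) := hU₁V hx
    obtain ⟨W, hW, hxW⟩ := (hmemS x).1 hxV
    refine hbW ⟨W, hW⟩ x hxW ?_
    obtain ⟨z, hz⟩ := Finset.dvd_prod_of_mem b (Finset.mem_univ (⟨W, hW⟩ : S))
    have : β = b ⟨W, hW⟩ * (b₁ * z) := by simp only [β, hz]; ring
    have hx2 : f x ∈ Y.basicOpen β := hx
    rw [this, Scheme.basicOpen_mul] at hx2
    exact hx2.1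
  have hW₁ : IsAffineOpen (f ⁻¹ᵁ U₁) := hW₁eq ▸ hW₀.basicOpen _
  have hle₁ : f ⁻¹ᵁ U₁ ≤ W₀ := hW₁eq.trans_le (X.basicOpen_le _)
  have hηU₁ : f ξ ∈ U₁ := by
    rw [hη]
    refine ((genericPoint_spec ↥Y).mem_open_set_iff U₁.2).2 ?_
    rw [Set.univ_inter]
    refine Set.nonempty_iff_ne_empty.2 fun h => hβ ?_
    exact (basicOpen_eq_bot_iff β).1 (TopologicalSpace.Opens.ext h)
  haveI : Nonempty ↥U₁ := ⟨⟨_, hηU₁⟩⟩
  haveI : Nonempty ↥(f ⁻¹ᵁ U₁) := ⟨⟨ξ, hηU₁⟩⟩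
  letI alg₁ := (f.appLE U₁ (f ⁻¹ᵁ U₁) le_rfl).hom.toAlgebra
  haveI hfin₁ : Module.Finite Γ(Y, U₁) Γ(X, f ⁻¹ᵁ U₁) := by
    letI := (Y.presheaf.map (homOfLE hU₁V).op).hom.toAlgebra
    letI := (X.presheaf.map (homOfLE hle₁).op).hom.toAlgebra
    letI : Algebra Γ(Y, V) Γ(X, f ⁻¹ᵁ U₁) := (f.appLE V (f ⁻¹ᵁ U₁) (hle₁.trans hW₀V)).hom.toAlgebra
    haveI : IsScalarTower Γ(Y, V) Γ(Y, U₁) Γ(X, f ⁻¹ᵁ U₁) := IsScalarTower.of_algebraMap_eq' (by
      show (f.appLE V (f ⁻¹ᵁ U₁) _).hom = ((f.appLE U₁ (f ⁻¹ᵁ U₁) le_rfl).hom.comp (Y.presheaf.map (homOfLE hU₁V).op).hom)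
      rw [← CommRingCat.hom_comp, Scheme.Hom.map_appLE])
    haveI : IsScalarTower Γ(Y, V) Γ(X, W₀) Γ(X, f ⁻¹ᵁ U₁) := IsScalarTower.of_algebraMap_eq' (by
      show (f.appLE V (f ⁻¹ᵁ U₁) _).hom = ((X.presheaf.map (homOfLE hle₁).op).hom.comp (f.appLE V W₀ hW₀V).hom)
      rw [← CommRingCat.hom_comp, Scheme.Hom.appLE_map])
    haveI hloc1 : IsLocalization.Away β Γ(Y, U₁) := hV.isLocalization_basicOpen β
    haveI hloc2 : IsLocalization.Away (algebraMap Γ(Y, V) Γ(X, W₀) β) Γ(X, f ⁻¹ᵁ U₁) :=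
      hW₀.isLocalization_of_eq_basicOpen _ (homOfLE hle₁) hW₁eq
    haveI : Algebra.FiniteType Γ(Y, U₁) Γ(X, f ⁻¹ᵁ U₁) := f.finiteType_appLE hU₁ hW₁ le_rfl
    exact hfin β (dvd_mul_right b₁ _) Γ(Y, U₁) Γ(X, f ⁻¹ᵁ U₁)
  haveI : IsDomain Γ(Y, U₁) := @IsIntegral.component_integral _ _ U₁ ⟨⟨_, hηU₁⟩⟩
  obtain ⟨r, hr, hfree⟩ := exists_free_away' Γ(Y, U₁) Γ(X, f ⁻¹ᵁ U₁)
  let U := Y.basicOpen r
  have hUle : U ≤ U₁ := Y.basicOpen_le r
  have hWle : f ⁻¹ᵁ U ≤ f ⁻¹ᵁ U₁ := fun x hx => hUle hx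
  have hWeq : f ⁻¹ᵁ U = X.basicOpen (f.appLE U₁ (f ⁻¹ᵁ U₁) le_rfl r) := by
    rw [Scheme.basicOpen_appLE]
    exact (inf_eq_right.2 hWle).symm
  have hU : IsAffineOpen U := hU₁.basicOpen r
  have hW : IsAffineOpen (f ⁻¹ᵁ U) := hWeq ▸ hW₁.basicOpen _
  have hηU : f ξ ∈ U := by
    rw [hη]
    refine ((genericPoint_spec ↥Y).mem_open_set_iff U.2).2 ?_
    rw [Set.univ_inter]
    refine Set.nonempty_iff_ne_empty.2 fun h => hr ?_
    exact (basicOpen_eq_bot_iff r).1 (TopologicalSpace.Opens.ext h)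
  haveI : Nonempty ↥(f ⁻¹ᵁ U) := ⟨⟨ξ, hηU⟩⟩
  haveI : Nonempty ↥U := ⟨⟨_, hηU⟩⟩
  letI := (f.appLE U (f ⁻¹ᵁ U) le_rfl).hom.toAlgebra
  have hfreeU : Module.Free Γ(Y, U) Γ(X, f ⁻¹ᵁ U) ∧ Module.Finite Γ(Y, U) Γ(X, f ⁻¹ᵁ U) := by
    letI := (Y.presheaf.map (homOfLE hUle).op).hom.toAlgebra
    letI := (X.presheaf.map (homOfLE hWle).op).hom.toAlgebra
    letI : Algebra Γ(Y, U₁) Γ(X, f ⁻¹ᵁ U) := (f.appLE U₁ (f ⁻¹ᵁ U) hWle).hom.toAlgebra
    haveI : IsScalarTower Γ(Y, U₁) Γ(Y, U) Γ(X, f ⁻¹ᵁ U) := IsScalarTower.of_algebraMap_eq' (by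
      show (f.appLE U₁ (f ⁻¹ᵁ U) _).hom = ((f.appLE U (f ⁻¹ᵁ U) le_rfl).hom.comp (Y.presheaf.map (homOfLE hUle).op).hom)
      rw [← CommRingCat.hom_comp, Scheme.Hom.map_appLE])
    haveI : IsScalarTower Γ(Y, U₁) Γ(X, f ⁻¹ᵁ U₁) Γ(X, f ⁻¹ᵁ U) := IsScalarTower.of_algebraMap_eq' (by
      show (f.appLE U₁ (f ⁻¹ᵁ U) _).hom = ((X.presheaf.map (homOfLE hWle).op).hom.comp (f.appLE U₁ (f ⁻¹ᵁ U₁) le_rfl).hom)
      rw [← CommRingCat.hom_comp, Scheme.Hom.appLE_map])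
    haveI hloc1 : IsLocalization.Away r Γ(Y, U) := hU₁.isLocalization_basicOpen r
    haveI hloc2 : IsLocalization.Away (algebraMap Γ(Y, U₁) Γ(X, f ⁻¹ᵁ U₁) r) Γ(X, f ⁻¹ᵁ U) :=
      hW₁.isLocalization_of_eq_basicOpen _ (homOfLE hWle) hWeq
    haveI : IsLocalization (Algebra.algebraMapSubmonoid Γ(X, f ⁻¹ᵁ U₁) (Submonoid.powers r)) Γ(X, f ⁻¹ᵁ U) := by
      rw [Algebra.algebraMapSubmonoid, Submonoid.map_powers]
      exact hloc2
    haveI : IsLocalizedModule (Submonoid.powers r)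
        (IsScalarTower.toAlgHom Γ(Y, U₁) Γ(X, f ⁻¹ᵁ U₁) Γ(X, f ⁻¹ᵁ U)).toLinearMap :=
      (isLocalizedModule_iff_isLocalization).2 inferInstance
    exact ⟨hfree Γ(Y, U) Γ(X, f ⁻¹ᵁ U), Module.Finite.of_isLocalizedModule (Submonoid.powers r)
      (IsScalarTower.toAlgHom Γ(Y, U₁) Γ(X, f ⁻¹ᵁ U₁) Γ(X, f ⁻¹ᵁ U)).toLinearMap⟩
  refine ⟨U, hU, inferInstance, hW, hfreeU.2, hfreeU.1, ?_⟩
  letI := (f.residueFieldMap ξ).hom.toAlgebra
  letI := (Y.evaluation U (f ξ) hηU).hom.toAlgebra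
  letI := (X.evaluation (f ⁻¹ᵁ U) ξ hηU).hom.toAlgebra
  haveI := isFractionRing_residueField hU (f ξ) hη hηU
  haveI := isFractionRing_residueField hW ξ rfl hηU
  letI : Algebra Γ(Y, U) (X.residueField ξ) :=
    ((f.residueFieldMap ξ).hom.comp (Y.evaluation U (f ξ) hηU).hom).toAlgebra
  haveI : IsScalarTower Γ(Y, U) (Y.residueField (f ξ)) (X.residueField ξ) := IsScalarTower.of_algebraMap_eq' rfl
  haveI : IsScalarTower Γ(Y, U) Γ(X, f ⁻¹ᵁ U) (X.residueField ξ) := IsScalarTower.of_algebraMap_eq fun a =>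
    (evaluation_appLE f (V := U) (W := f ⁻¹ᵁ U) le_rfl ξ hηU a).symm
  exact (IsFractionRing.finrank_eq Γ(Y, U) (Y.residueField (f ξ)) Γ(X, f ⁻¹ᵁ U) (X.residueField ξ)).symm

end Groth.Agent.GenDeg28
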