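import Groth.Agent.Lib.GenDeg28.Geom
import Mathlib.AlgebraicGeometry.Noetherian
import Mathlib.AlgebraicGeometry.Morphisms.QuasiSeparated
import Mathlib.AlgebraicGeometry.ResidueField

/-!
# Fibre rank over a dense open equals the degree
-/

universe u

open CategoryTheory CategoryTheory.Limits AlgebraicGeometry

noncomputable section

namespace Groth.Agent.GenDeg28

theorem main {X Y : Scheme.{u}} {k : Type u} [Field k] (sX : X ⟶ Spec (CommRingCat.of k))
    (sY : Y ⟶ Spec (CommRingCat.of k)) [LocallyOfFiniteType sX] [QuasiCompact sX] [LocallyOfFiniteType sY]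
    [IsIntegral X] [IsIntegral Y] (f : X ⟶ Y) [IsDominant f] (hf : f ≫ sY = sX)
    (hdim : topologicalKrullDim ↥X = topologicalKrullDim ↥Y) :
    (letI := (f.residueFieldMap (genericPoint ↥X)).hom.toAlgebra;
      Module.Finite (Y.residueField (f (genericPoint ↥X))) (X.residueField (genericPoint ↥X))) ∧
    ∃ U : Y.Opens, Nonempty ↥U ∧ ∀ y : Y, y ∈ U →
      IsFinite (pullback.snd f (Y.fromSpecResidueField y)) ∧
        (letI := ((Scheme.ΓSpecIso (CommRingCat.of (Y.residueField y))).inv ≫
            (pullback.snd f (Y.fromSpecResidueField y)).appTop).hom.toAlgebra;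
          Module.finrank (Y.residueField y) ↑(Γ(pullback f (Y.fromSpecResidueField y), ⊤))) =
        (letI := (f.residueFieldMap (genericPoint ↥X)).hom.toAlgebra;
          Module.finrank (Y.residueField (f (genericPoint ↥X))) (X.residueField (genericPoint ↥X))) := by
  subst hf
  haveI : LocallyOfFiniteType f := locallyOfFiniteType_of_comp f sY
  haveI : IsLocallyNoetherian Y := LocallyOfFiniteType.isLocallyNoetherian sY
  haveI : QuasiSeparated sY := inferInstance
  haveI : QuasiCompact f := QuasiCompact.of_comp f sY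
  set ξ := genericPoint ↥X with hξ
  have hη : f ξ = genericPoint ↥Y := map_genericPoint f
  have halg : (letI := (f.residueFieldMap ξ).hom.toAlgebra
      Algebra.IsAlgebraic (Y.residueField (f ξ)) (X.residueField ξ)) := by
    letI := (f.residueFieldMap ξ).hom.toAlgebra
    have h1 := VarDim.dim_eq_sdim_genericPoint (f ≫ sY)
    have h2 := VarDim.dim_eq_sdim_genericPoint sY
    rw [hdim, h2, ← hη] at h1
    have h12 : VarDim.sdim sY (f ξ) = VarDim.sdim (f ≫ sY) ξ := by exact_mod_cast h1
    rw [← trdeg_eq_zero_iff]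
    letI := VarDim.resAlg sY (f ξ)
    letI := VarDim.resAlg (f ≫ sY) ξ
    have h3 := VarDim.trdeg_comp sY f ξ
    rw [VarDim.trdeg_residueField (f ≫ sY) ξ, VarDim.trdeg_residueField sY (f ξ), h12] at h3
    have hlt := h3 ▸ (Cardinal.natCast_lt_aleph0 (n := VarDim.sdim (f ≫ sY) ξ))
    rw [Cardinal.add_lt_aleph0_iff] at hlt
    have h4 := congrArg Cardinal.toNat h3
    rw [Cardinal.toNat_add hlt.1 hlt.2] at h4
    exact ((Cardinal.toNat_eq_zero.1 (by omega)).resolve_right (not_le.2 hlt.2))
  obtain ⟨U, hU, hne, hW, hfin, hfree, hrank⟩ := exists_finite_flat f halg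
  letI := (f.appLE U (f ⁻¹ᵁ U) le_rfl).hom.toAlgebra
  haveI : Module.Free Γ(Y, U) Γ(X, f ⁻¹ᵁ U) := hfree
  haveI hfin' : Module.Finite Γ(Y, U) Γ(X, f ⁻¹ᵁ U) := hfin
  haveI : IsDomain Γ(Y, U) := @IsIntegral.component_integral _ _ U hne
  have hηU : f ξ ∈ U := by
    rw [hη]
    exact ((genericPoint_spec ↥Y).mem_open_set_iff U.2).2 (by
      obtain ⟨⟨z, hz⟩⟩ := hne
      exact ⟨z, ⟨trivial, hz⟩⟩)
  haveI : Nontrivial Γ(X, f ⁻¹ᵁ U) := (@IsIntegral.component_integral _ _ (f ⁻¹ᵁ U) ⟨⟨ξ, hηU⟩⟩).toNontrivial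
  refine ⟨?_, U, hne, fun y hy => ?_⟩
  · letI := (f.residueFieldMap ξ).hom.toAlgebra
    refine Module.finite_of_finrank_pos ?_
    rw [← hrank]
    exact Module.finrank_pos
  · let φ := f.appLE U (f ⁻¹ᵁ U) le_rfl
    have sq : IsPullback (Spec.map φ) hW.fromSpec hU.fromSpec f :=
      IsOpenImmersion.isPullback _ _ _ _ (IsAffineOpen.SpecMap_appLE_fromSpec f hU hW le_rfl).symm (by simp)
    have hflat : φ.hom.Flat := RingHom.flat_algebraMap_iff.2 inferInstance
    haveI : IsFinite (Spec.map φ) := (IsFinite.SpecMap_iff φ).2 hfin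
    haveI : Flat (Spec.map φ) := Flat.SpecMap_iff.2 hflat
    let j := Spec.map (Y.evaluation U y hy)
    have hj : Y.fromSpecResidueField y = j ≫ hU.fromSpec := by
      simp only [j, Scheme.evaluation]
      rw [Scheme.fromSpecResidueField, ← hU.fromSpecStalk_eq_fromSpecStalk hy]
      exact (Spec.map_comp_assoc _ _ _).symm
    let f' := pullback.snd (Spec.map φ) j
    have sq' : IsPullback (pullback.fst (Spec.map φ) j ≫ hW.fromSpec) f' f (j ≫ hU.fromSpec) :=
      ((IsPullback.of_hasPullback (Spec.map φ) j).flip.paste_vert sq.flip.flip).flip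
    rw [← hj] at sq'
    haveI : IsFinite f' := by dsimp only [f']; infer_instance
    have hcomp : sq'.isoPullback.inv ≫ f' = pullback.snd f (Y.fromSpecResidueField y) :=
      sq'.isoPullback_inv_snd
    haveI hfinfib : IsFinite (pullback.snd f (Y.fromSpecResidueField y)) := by
      rw [← hcomp]
      infer_instance
    refine ⟨hfinfib, ?_⟩
    rw [← @finrank_fibre (pullback f (Y.fromSpecResidueField y)) (Y.residueField y) _ (pullback.snd f (Y.fromSpecResidueField y)) hfinfib (IsLocalRing.closedPoint (Y.residueField y))]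
    haveI : Flat f' := by dsimp only [f']; infer_instance
    have h5 : ∀ x, f'.finrank x = (letI := (f.residueFieldMap ξ).hom.toAlgebra;
        Module.finrank (Y.residueField (f ξ)) (X.residueField ξ)) := fun x => by
      rw [← hrank, Scheme.Hom.finrank_pullback_snd, Scheme.Hom.finrank_SpecMap_eq_finrank hfin hflat,
        ← RingHom.algebraMap_toAlgebra φ.hom, RingHom.finrank_algebraMap]
      exact congrFun (Module.rankAtStalk_eq_finrank_of_free (R := Γ(Y, U)) (M := Γ(X, f ⁻¹ᵁ U))) _
    rw [← hcomp, Scheme.Hom.finrank_comp_left_of_isIso]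
    exact h5 _

end Groth.Agent.GenDeg28
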